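import Groth.Agent.Lib.DegOne28.Places
import Groth.Agent.Lib.StrongApproxNF28.CodimTwo
import Mathlib.RingTheory.Norm.Basic
import Mathlib.LinearAlgebra.Charpoly.Basic
import Mathlib.LinearAlgebra.Charpoly.BaseChange
import Mathlib.RingTheory.TensorProduct.Free

/-!
# Norms that are units away from places of degree one
-/

set_option autoImplicit false
set_option linter.style.haveILetI false

universe u

open NumberField IsDedekindDomain WithZero Polynomial Module Filter Topology
open scoped TensorProduct

namespace GrothLib.DegOne28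

section norm

variable {k L : Type u} [Field k] [Field L] [Algebra k L] [FiniteDimensional k L]

/-- The norm of a base change. -/
theorem norm_one_tmul (K : Type u) [Field K] [Algebra k K] (y : L) :
    Algebra.norm K ((1 : K) ⊗ₜ[k] y) = algebraMap k K (Algebra.norm k y) := by
  rw [Algebra.norm_apply, Algebra.norm_apply, ← LinearMap.det_baseChange]
  congr 1
  refine TensorProduct.AlgebraTensorModule.ext fun c x => ?_
  simp [Algebra.TensorProduct.tmul_mul_tmul]

/-- The norm form in the coordinates of a basis. -/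
noncomputable def normForm (K : Type u) [Field K] [Algebra k K] {ι : Type*} [Fintype ι] (b : Basis ι k L)
    (c : ι → K) : K := Algebra.norm K (∑ i, c i • (Algebra.TensorProduct.basis K b i))

theorem normForm_algebraMap (K : Type u) [Field K] [Algebra k K] {ι : Type*} [Fintype ι] (b : Basis ι k L)
    (c : ι → k) : normForm K b (fun i => algebraMap k K (c i)) = algebraMap k K (Algebra.norm k (∑ i, c i • b i)) := by
  rw [normForm, ← norm_one_tmul K]
  congr 1
  rw [TensorProduct.tmul_sum]
  refine Finset.sum_congr rfl fun i _ => ?_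
  rw [Algebra.TensorProduct.basis_apply, TensorProduct.smul_tmul', smul_eq_mul, mul_one,
    TensorProduct.tmul_smul, TensorProduct.smul_tmul', Algebra.smul_def, mul_one]

theorem normForm_repr (K : Type u) [Field K] [Algebra k K] {ι : Type*} [Fintype ι] (b : Basis ι k L)
    (x : K ⊗[k] L) : normForm K b (fun i => (Algebra.TensorProduct.basis K b).repr x i) = Algebra.norm K x := by
  rw [normForm, Basis.sum_repr]

theorem continuous_normForm (K : Type u) [Field K] [Algebra k K] [TopologicalSpace K] [IsTopologicalRing K]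
    {ι : Type*} [Fintype ι] (b : Basis ι k L) : Continuous (normForm K b : (ι → K) → K) := by
  classical
  show Continuous fun c : ι → K => Algebra.norm K (∑ i, c i • (Algebra.TensorProduct.basis K b i))
  simp only [Algebra.norm_eq_matrix_det (Algebra.TensorProduct.basis K b), map_sum, map_smul]
  exact Continuous.matrix_det (continuous_finsetSum _ fun i _ => (continuous_apply i).smul continuous_const)

theorem minpoly_natDegree_eq {u : L} (hu : IntermediateField.adjoin k {u} = ⊤) :
    (minpoly k u).natDegree = finrank k L := by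
  rw [← IntermediateField.adjoin.finrank (IsIntegral.of_finite k u), hu, IntermediateField.finrank_top']

/-- The norm of `a u + b` in terms of the minimal polynomial of a generator `u`. -/
theorem norm_smul_add {u : L} (hu : IntermediateField.adjoin k {u} = ⊤) {a : k} (ha : a ≠ 0) (b : k) :
    Algebra.norm k (a • u + b • (1 : L)) = (-a) ^ finrank k L * (minpoly k u).eval (-b / a) := by
  have hchar : (Algebra.lmul k L u).charpoly = minpoly k u := by
    refine (Polynomial.eq_of_monic_of_dvd_of_natDegree_le (minpoly.monic (IsIntegral.of_finite k u))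
      (LinearMap.charpoly_monic _) (minpoly.dvd k u ?_) ?_)
    · have h := LinearMap.aeval_self_charpoly (Algebra.lmul k L u)
      rw [aeval_algHom_apply] at h
      simpa using LinearMap.congr_fun h 1
    · rw [LinearMap.charpoly_natDegree, minpoly_natDegree_eq hu]
  have : a • u + b • (1 : L) = algebraMap k L (-a) * (algebraMap k L (-b / a) - u) := by
    simp only [Algebra.smul_def, map_neg, map_div₀]
    field_simp [(_root_.map_ne_zero (algebraMap k L)).mpr ha]
    ring
  rw [this, map_mul, Algebra.norm_algebraMap, ← hchar, LinearMap.eval_charpoly, Algebra.norm_apply]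
  congr 2
  ext x
  simp [sub_mul, Algebra.smul_def]

end norm

section generic

variable {k : Type u} [Field k] [NumberField k]

/-- Nonempty open sets of infinite completions are infinite. -/
theorem nonempty_diff_finite {w : InfinitePlace k} {U : Set w.Completion} (hU : IsOpen U) (hne : U.Nonempty)
    {F : Set w.Completion} (hF : F.Finite) : (U \ F).Nonempty := by
  obtain ⟨x, hx⟩ := hne
  let g : ℕ → w.Completion := fun j => x + algebraMap k w.Completion ((2 : k)⁻¹ ^ j)
  have hg : Tendsto g atTop (𝓝 x) := by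
    have h2 : ‖algebraMap k w.Completion (2 : k)⁻¹‖ < 1 := by
      rw [GrothLib.StrongApproxNF28.norm_algebraMap, map_inv₀]
      have : w (2 : k) = 2 := by
        rw [← InfinitePlace.norm_embedding_eq, map_ofNat]; norm_num
      rw [this]; norm_num
    simpa [g, map_pow] using tendsto_const_nhds.add (tendsto_pow_atTop_nhds_zero_of_norm_lt_one h2)
  have hinj : Function.Injective g := fun i j h => by
    have h' := congrArg w ((algebraMap k w.Completion).injective (add_left_cancel h))
    have h2 : w (2 : k) = 2 := by rw [← InfinitePlace.norm_embedding_eq, map_ofNat]; norm_num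
    rw [map_pow, map_pow, map_inv₀, h2] at h'
    exact pow_right_injective₀ (by norm_num) (by norm_num) h'
  obtain ⟨N, hN⟩ := Filter.eventually_atTop.mp (hg.eventually (hU.mem_nhds hx))
  by_contra hc
  rw [Set.not_nonempty_iff_eq_empty, Set.sdiff_eq_empty] at hc
  exact (Set.infinite_range_of_injective (f := fun j => g (j + N)) fun i j h => by have := hinj h; omega).mono
    (Set.range_subset_iff.mpr fun j => hc (hN _ (by omega))) hF

theorem strongApprox_avoid (v₀ : HeightOneSpectrum (𝓞 k)) (S : Finset (HeightOneSpectrum (𝓞 k))) (hv₀ : v₀ ∉ S)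
    (Uf : (v : HeightOneSpectrum (𝓞 k)) → Set (v.adicCompletion k))
    (hUf : ∀ v ∈ S, IsOpen (Uf v) ∧ (Uf v).Nonempty)
    (Ui : (w : InfinitePlace k) → Set w.Completion) (hUi : ∀ w, IsOpen (Ui w) ∧ (Ui w).Nonempty)
    (F : Set k) (hF : F.Finite) :
    ∃ x : k, x ∉ F ∧ (∀ v, v ∉ S → v ≠ v₀ → v.valuation k x ≤ 1) ∧
      (∀ v ∈ S, algebraMap k (v.adicCompletion k) x ∈ Uf v) ∧ ∀ w, algebraMap k w.Completion x ∈ Ui w := by
  obtain ⟨x, h1, h2, h3⟩ := GrothLib.StrongApproxNF28.strongApprox v₀ S hv₀ Uf hUf
    (fun w => Ui w \ algebraMap k w.Completion '' F)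
    (fun w => ⟨(hUi w).1.sdiff (hF.image _).isClosed, nonempty_diff_finite (hUi w).1 (hUi w).2 (hF.image _)⟩)
  obtain ⟨w⟩ := (inferInstance : Nonempty (InfinitePlace k))
  exact ⟨x, fun hx => (h3 w).2 ⟨x, hx, rfl⟩, h1, h2, fun w => (h3 w).1⟩

variable (L : Type u) [Field L] [Algebra k L] [FiniteDimensional k L]

theorem finite_nongenerating (u θ : L) (hθ : IntermediateField.adjoin k {θ} = ⊤) :
    {s : k | IntermediateField.adjoin k {u + s • θ} ≠ ⊤}.Finite := by
  haveI : Finite (IntermediateField k L) := Field.finite_intermediateField_of_exists_primitive_element k L ⟨θ, hθ⟩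
  refine Set.Finite.of_finite_image (f := fun s : k => IntermediateField.adjoin k {u + s • θ})
    (Set.toFinite _) fun s hs t _ hst => by_contra fun hne => hs ?_
  simp only at hst
  rw [eq_top_iff, ← hθ, IntermediateField.adjoin_le_iff, Set.singleton_subset_iff, SetLike.mem_coe]
  have h1 : u + s • θ ∈ IntermediateField.adjoin k {u + s • θ} := IntermediateField.subset_adjoin k _ rfl
  have h2 : u + t • θ ∈ IntermediateField.adjoin k {u + s • θ} := hst ▸ IntermediateField.subset_adjoin k _ rfl
  have h3 := IntermediateField.smul_mem _ (x := (s - t)⁻¹) (sub_mem h1 h2)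
  rwa [add_sub_add_left_eq_sub, ← sub_smul, inv_smul_smul₀ (sub_ne_zero.mpr hne)] at h3

end generic

section main

variable {k : Type u} [Field k] [NumberField k]

/-- A value of a monic binary form at `(b, a)` with `a` small is a unit. -/
theorem val_form_eq_one (v : HeightOneSpectrum (𝓞 k)) (P : k[X]) (hP : P.Monic) {a b : k} (ha0 : a ≠ 0)
    (hb : v.valuation k b = 1) (ha : v.valuation k a ≤ 1) (hsmall : ∀ i, v.valuation k (P.coeff i * a) < 1) :
    v.valuation k ((-a) ^ P.natDegree * P.eval (-b / a)) = 1 := by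
  have hsum : (-a) ^ P.natDegree * P.eval (-b / a) =
      ∑ i ∈ Finset.range (P.natDegree + 1), P.coeff i * b ^ i * (-a) ^ (P.natDegree - i) := by
    rw [eval_eq_sum_range, Finset.mul_sum]
    refine Finset.sum_congr rfl fun i hi => ?_
    have hi' : i ≤ P.natDegree := Nat.lt_succ_iff.mp (Finset.mem_range.mp hi)
    rw [show -b / a = (b / (-a)) from by ring, div_pow,
      show (-a) ^ P.natDegree = (-a) ^ i * (-a) ^ (P.natDegree - i) by rw [← pow_add]; congr 1; omega]
    field_simp [pow_ne_zero i (neg_ne_zero.mpr ha0)]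
  rw [hsum, Finset.sum_range_succ, Nat.sub_self, pow_zero, mul_one, hP.coeff_natDegree, one_mul]
  have hlast : v.valuation k (b ^ P.natDegree) = 1 := by rw [map_pow, hb, one_pow]
  have hlt : v.valuation k (∑ i ∈ Finset.range P.natDegree, P.coeff i * b ^ i * (-a) ^ (P.natDegree - i)) < 1 := by
    refine Valuation.map_sum_lt _ one_ne_zero fun i hi => ?_
    obtain ⟨j, hj⟩ : ∃ j, P.natDegree - i = j + 1 := ⟨P.natDegree - i - 1, by have := Finset.mem_range.mp hi; omega⟩
    rw [hj, map_mul, map_mul, map_pow, map_pow, Valuation.map_neg, hb, one_pow, mul_one,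
      pow_succ', ← mul_assoc, ← map_mul]
    exact (mul_le_of_le_one_right' (pow_le_one' ha j)).trans_lt (hsmall i)
  rw [Valuation.map_add_eq_of_lt_right _ (hlt.trans_eq hlast.symm), hlast]

theorem norm_base_field {K : Type u} [Field K] [Algebra k K] (L : Type u) [Field L] [Algebra k L] [FiniteDimensional k L] :
    Algebra.norm K (1 : K ⊗[k] L) = 1 := map_one _

theorem near (L : Type u) [Field L] [NumberField L] [Algebra k L]
    (Sf : Finset (HeightOneSpectrum (𝓞 k))) (Si : Finset (InfinitePlace k))
    (tf : (v : HeightOneSpectrum (𝓞 k)) → v.adicCompletion k) (ti : (w : InfinitePlace k) → w.Completion)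
    (htf : ∀ v ∈ Sf, tf v ≠ 0 ∧ ∃ x : (v.adicCompletion k) ⊗[k] L, Algebra.norm (v.adicCompletion k) x = tf v)
    (hti : ∀ w ∈ Si, ti w ≠ 0 ∧ ∃ x : w.Completion ⊗[k] L, Algebra.norm w.Completion x = ti w)
    (Uf : (v : HeightOneSpectrum (𝓞 k)) → Set (v.adicCompletion k)) (hUf : ∀ v ∈ Sf, IsOpen (Uf v) ∧ tf v ∈ Uf v)
    (Ui : (w : InfinitePlace k) → Set w.Completion) (hUi : ∀ w ∈ Si, IsOpen (Ui w) ∧ ti w ∈ Ui w)
    (v₀ : HeightOneSpectrum (𝓞 k)) (hv₀ : v₀ ∉ Sf) (hLv₀ : Nonempty (L →ₐ[k] v₀.adicCompletion k)) :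
    ∃ t : k, t ≠ 0 ∧ (∀ v ∈ Sf, algebraMap k (v.adicCompletion k) t ∈ Uf v) ∧
      (∀ w ∈ Si, algebraMap k w.Completion t ∈ Ui w) ∧
      (∀ v : HeightOneSpectrum (𝓞 k), v ∉ Sf → v ≠ v₀ → v.valuation k t ≤ 1) ∧
      ∀ v : HeightOneSpectrum (𝓞 k), v ∉ Sf →
        v.valuation k t = 1 ∨ Nonempty (L →ₐ[k] v.adicCompletion k) := by
  classical
  haveI : FiniteDimensional k L := Module.Finite.of_restrictScalars_finite ℚ k L
  let B := Module.finBasis k L
  -- targets at all infinite places
  let Ui' : (w : InfinitePlace k) → Set w.Completion := fun w => (if w ∈ Si then Ui w else Set.univ) ∩ {y | y ≠ 0}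
  have hi : ∀ w, ∃ c : Fin (finrank k L) → InfinitePlace.Completion w, normForm w.Completion B c ∈ Ui' w := fun w => by
    by_cases hw : w ∈ Si
    · obtain ⟨h0, x, hx⟩ := hti w hw
      refine ⟨fun i => (Algebra.TensorProduct.basis w.Completion B).repr x i, ?_⟩
      rw [normForm_repr, hx]
      exact ⟨by rw [if_pos hw]; exact (hUi w hw).2, h0⟩
    · refine ⟨fun i => (Algebra.TensorProduct.basis w.Completion B).repr 1 i, ?_⟩
      rw [normForm_repr, norm_base_field]
      exact ⟨by rw [if_neg hw]; trivial, one_ne_zero⟩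
  have hUi' : ∀ w, IsOpen (Ui' w) := fun w => by
    refine IsOpen.inter ?_ isOpen_ne
    split_ifs with hw
    · exact (hUi w hw).1
    · exact isOpen_univ
  choose ci hci using hi
  have hf : ∀ v ∈ Sf, (normForm (v.adicCompletion k) B ⁻¹' Uf v).Nonempty := fun v hv => by
    obtain ⟨-, x, hx⟩ := htf v hv
    refine ⟨fun i => (Algebra.TensorProduct.basis (v.adicCompletion k) B).repr x i, ?_⟩
    rw [Set.mem_preimage, normForm_repr, hx]
    exact (hUf v hv).2
  obtain ⟨C, -, hC2, hC3⟩ := GrothLib.StrongApproxNF28.strongApprox_pi v₀ Sf hv₀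
    (fun v => normForm (v.adicCompletion k) B ⁻¹' Uf v)
    (fun v hv => ⟨(hUf v hv).1.preimage (continuous_normForm _ B), hf v hv⟩)
    (fun w => normForm w.Completion B ⁻¹' Ui' w)
    (fun w => ⟨(hUi' w).preimage (continuous_normForm _ B), ci w, hci w⟩)
  -- a generator
  obtain ⟨θ, hθ⟩ := Field.exists_primitive_element k L
  let sh : (K : Type u) → [Field K] → [Algebra k K] → K → (Fin (finrank k L) → K) := fun K _ _ s i =>
    algebraMap k K (C i) + s * algebraMap k K (B.repr θ i)
  obtain ⟨s, hs, -, hs2, hs3⟩ := strongApprox_avoid v₀ Sf hv₀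
    (fun v => sh (v.adicCompletion k) ⁻¹' (normForm (v.adicCompletion k) B ⁻¹' Uf v))
    (fun v hv => ⟨((hUf v hv).1.preimage (continuous_normForm _ B)).preimage
      (continuous_pi fun i => continuous_const.add (continuous_id.mul continuous_const)), 0, by
        simpa [sh] using hC2 v hv⟩)
    (fun w => sh w.Completion ⁻¹' (normForm w.Completion B ⁻¹' Ui' w))
    (fun w => ⟨((hUi' w).preimage (continuous_normForm _ B)).preimage
      (continuous_pi fun i => continuous_const.add (continuous_id.mul continuous_const)), 0, by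
        simpa [sh] using hC3 w⟩)
    _ (finite_nongenerating L (∑ i, C i • B i) θ hθ)
  let u := (∑ i, C i • B i) + s • θ
  have hu : IntermediateField.adjoin k {u} = ⊤ := not_not.mp hs
  have hshN : ∀ (K : Type u) [Field K] [Algebra k K],
      normForm K B (sh K (algebraMap k K s)) = algebraMap k K (Algebra.norm k u) := fun K _ _ => by
    rw [show sh K (algebraMap k K s) = fun i => algebraMap k K (C i + s * B.repr θ i) from
      funext fun i => by simp only [sh, map_add, map_mul], normForm_algebraMap]
    congr 2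
    conv_rhs => rw [show u = ∑ i, C i • B i + s • ∑ i, B.repr θ i • B i by rw [B.sum_repr]]
    simp [add_smul, Finset.sum_add_distrib, mul_smul]
    rw [← Finset.smul_sum, B.sum_repr]
  -- the two parameters
  let cu := fun i => B.repr u i
  let c1 := fun i => B.repr (1 : L) i
  let G : (K : Type u) → [Field K] → [Algebra k K] → K × K → K := fun K _ _ p =>
    normForm K B fun i => p.1 * algebraMap k K (cu i) + p.2 * algebraMap k K (c1 i)
  have hG : ∀ (K : Type u) [Field K] [Algebra k K] (a b : k),
      G K (algebraMap k K a, algebraMap k K b) = algebraMap k K (Algebra.norm k (a • u + b • (1 : L))) :=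
    fun K _ _ a b => by
      simp only [G]
      rw [show (fun i => algebraMap k K a * algebraMap k K (cu i) + algebraMap k K b * algebraMap k K (c1 i)) =
          fun i => algebraMap k K (a * cu i + b * c1 i) from funext fun i => by simp only [map_add, map_mul],
        normForm_algebraMap]
      congr 2
      conv_rhs => rw [← B.sum_repr u, ← B.sum_repr (1 : L)]
      simp [cu, c1, add_smul, Finset.sum_add_distrib, mul_smul]
      rw [← Finset.smul_sum, ← Finset.smul_sum, B.sum_repr, B.sum_repr]
  have hG10 : ∀ (K : Type u) [Field K] [Algebra k K],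
      G K (1, 0) = algebraMap k K (Algebra.norm k u) := fun K _ _ => by
    rw [← map_one (algebraMap k K), ← map_zero (algebraMap k K), hG, one_smul, zero_smul, add_zero]
  have hboxf : ∀ v, ∃ O₁ O₂ : Set (HeightOneSpectrum.adicCompletion k v), v ∈ Sf →
      IsOpen O₁ ∧ IsOpen O₂ ∧ (1 : v.adicCompletion k) ∈ O₁ ∧ (0 : v.adicCompletion k) ∈ O₂ ∧
        O₁ ×ˢ O₂ ⊆ G (v.adicCompletion k) ⁻¹' Uf v := fun v => by
    by_cases hv : v ∈ Sf
    · have hmem : ((1 : v.adicCompletion k), (0 : v.adicCompletion k)) ∈ G (v.adicCompletion k) ⁻¹' Uf v := by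
        rw [Set.mem_preimage, hG10, ← hshN]; exact hs2 v hv
      obtain ⟨O₁, O₂, h⟩ := isOpen_prod_iff.mp ((hUf v hv).1.preimage ((continuous_normForm _ B).comp
        (continuous_pi fun i => (continuous_fst.mul continuous_const).add (continuous_snd.mul continuous_const)))) 1 0 hmem
      exact ⟨O₁, O₂, fun _ => h⟩
    · exact ⟨∅, ∅, fun h => absurd h hv⟩
  have hboxi : ∀ w, ∃ O₁ O₂ : Set (InfinitePlace.Completion w),
      IsOpen O₁ ∧ IsOpen O₂ ∧ (1 : w.Completion) ∈ O₁ ∧ (0 : w.Completion) ∈ O₂ ∧
        O₁ ×ˢ O₂ ⊆ G w.Completion ⁻¹' Ui' w := fun w => by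
    have hmem : ((1 : w.Completion), (0 : w.Completion)) ∈ G w.Completion ⁻¹' Ui' w := by
      rw [Set.mem_preimage, hG10, ← hshN]; exact hs3 w
    exact isOpen_prod_iff.mp ((hUi' w).preimage ((continuous_normForm _ B).comp
      (continuous_pi fun i => (continuous_fst.mul continuous_const).add (continuous_snd.mul continuous_const)))) 1 0 hmem
  choose O₁ O₂ hO using hboxf
  choose P₁ P₂ hP using hboxi
  let P := minpoly k u
  have hPm : P.Monic := minpoly.monic (IsIntegral.of_finite k u)
  obtain ⟨r, q, hrq⟩ := exists_bezout (Algebra.IsSeparable.isSeparable k u : P.Separable)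
  let E := (badSet_finite P r q).toFinset.filter fun v => v ∉ Sf ∧ v ≠ v₀
  -- the first parameter
  let A₁ : (v : HeightOneSpectrum (𝓞 k)) → Set (v.adicCompletion k) := fun v =>
    if v ∈ Sf then O₁ v else {y | Valued.v (y - 0) < 1} ∩
      ⋂ i ∈ P.support, {y | Valued.v (algebraMap k (v.adicCompletion k) (P.coeff i) * y - 0) < 1}
  have hS₁ : v₀ ∉ Sf ∪ E := by simp [E, hv₀]
  obtain ⟨a, ha0, ha1, ha2, ha3⟩ := strongApprox_avoid v₀ (Sf ∪ E) hS₁ A₁ (fun v hv => by
    simp only [A₁]
    split_ifs with h
    · exact ⟨(hO v h).1, 1, (hO v h).2.2.1⟩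
    · refine ⟨(GrothLib.StrongApproxNF28.isOpen_v_lt_one v 0).inter (isOpen_biInter_finset fun i _ =>
        (GrothLib.StrongApproxNF28.isOpen_v_lt_one v 0).preimage (continuous_const.mul continuous_id)), 0, ?_⟩
      simp) P₁ (fun w => ⟨(hP w).1, 1, (hP w).2.2.1⟩) {0} (Set.finite_singleton 0)
  have ha : a ≠ 0 := ha0
  let Ea := (HeightOneSpectrum.Support.finite (𝓞 k) a⁻¹).toFinset.filter fun v => v ∉ Sf ∧ v ≠ v₀
  let A₂ : (v : HeightOneSpectrum (𝓞 k)) → Set (v.adicCompletion k) := fun v =>
    if v ∈ Sf then O₂ v else {y | Valued.v (y - 1) < 1}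
  have hS₂ : v₀ ∉ Sf ∪ E ∪ Ea := by simp [E, Ea, hv₀]
  obtain ⟨b, hb1, hb2, hb3⟩ := GrothLib.StrongApproxNF28.strongApprox v₀ (Sf ∪ E ∪ Ea) hS₂ A₂ (fun v hv => by
    simp only [A₂]
    split_ifs with h
    · exact ⟨(hO v h).2.1, 0, (hO v h).2.2.2.1⟩
    · exact ⟨GrothLib.StrongApproxNF28.isOpen_v_lt_one v 1, 1, by simp⟩) P₂ (fun w => ⟨(hP w).2.1, 0, (hP w).2.2.2.1⟩)
  let t := Algebra.norm k (a • u + b • (1 : L))
  have hti' : ∀ w : InfinitePlace k, algebraMap k w.Completion t ∈ Ui' w := fun w => by
    rw [← hG]; exact (hP w).2.2.2.2 ⟨ha3 w, hb3 w⟩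
  have ht0 : t ≠ 0 := fun h => by
    obtain ⟨w⟩ := (inferInstance : Nonempty (InfinitePlace k))
    exact (hti' w).2 (by rw [h, map_zero])
  have htform : t = (-a) ^ P.natDegree * P.eval (-b / a) := by
    rw [show P.natDegree = finrank k L from minpoly_natDegree_eq hu]
    exact norm_smul_add hu ha b
  have hval : ∀ v : HeightOneSpectrum (𝓞 k), v ∉ Sf → v ≠ v₀ →
      v.valuation k t ≤ 1 ∧ (v.valuation k t = 1 ∨ Nonempty (L →ₐ[k] v.adicCompletion k)) := by
    intro v hv hv'
    by_cases hE : v ∈ E
    · have haE := ha2 v (Finset.mem_union_right _ hE)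
      have hbE := hb2 v (Finset.mem_union_left _ (Finset.mem_union_right _ hE))
      simp only [A₁, if_neg hv, Set.mem_inter_iff, Set.mem_iInter₂, Set.mem_ofPred_eq, sub_zero] at haE
      simp only [A₂, if_neg hv, Set.mem_ofPred_eq] at hbE
      rw [← map_one (algebraMap k (v.adicCompletion k)), ← map_sub, valued_algebraMap] at hbE
      have hb : v.valuation k b = 1 := by
        rw [← map_one (v.valuation k)]; exact Valuation.map_eq_of_sub_lt _ (hbE.trans_eq (map_one _).symm)
      have h1 : v.valuation k t = 1 := by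
        rw [htform]
        refine val_form_eq_one v P hPm ha hb (by rw [← valued_algebraMap]; exact haE.1.le) fun i => ?_
        by_cases hi : i ∈ P.support
        · rw [← valued_algebraMap, map_mul]; exact haE.2 i hi
        · rw [Polynomial.notMem_support_iff.mp hi, zero_mul, map_zero]; exact zero_lt_one
      exact ⟨h1.le, Or.inl h1⟩
    · have hbad : v ∉ badSet k P r q := fun h => hE (Finset.mem_filter.mpr
        ⟨(badSet_finite P r q).mem_toFinset.mpr h, hv, hv'⟩)
      have hPi' := coeff_le_one hbad (Q := P) (by simp)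
      have hae : v.valuation k a ≤ 1 := ha1 v (by simp [hv, hE]) hv'
      rcases hae.lt_or_eq with hlt | heq
      · have hEa : v ∈ Ea := by
          refine Finset.mem_filter.mpr ⟨(HeightOneSpectrum.Support.finite (𝓞 k) a⁻¹).mem_toFinset.mpr ?_, hv, hv'⟩
          show 1 < v.valuation k a⁻¹
          rw [map_inv₀, one_lt_inv₀ (zero_lt_iff.mpr ((Valuation.ne_zero_iff _).mpr ha))]
          exact hlt
        have hbE := hb2 v (Finset.mem_union_right _ hEa)
        simp only [A₂, if_neg hv, Set.mem_ofPred_eq] at hbE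
        rw [← map_one (algebraMap k (v.adicCompletion k)), ← map_sub, valued_algebraMap] at hbE
        have hb : v.valuation k b = 1 := by
          rw [← map_one (v.valuation k)]; exact Valuation.map_eq_of_sub_lt _ (hbE.trans_eq (map_one _).symm)
        have h1 : v.valuation k t = 1 := by
          rw [htform]
          refine val_form_eq_one v P hPm ha hb hae fun i => ?_
          rw [map_mul]; exact (mul_le_of_le_one_left' (hPi' i)).trans_lt hlt
        exact ⟨h1.le, Or.inl h1⟩
      · have hb : v.valuation k b ≤ 1 := by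
          by_cases hEa : v ∈ Ea
          · have hbE := hb2 v (Finset.mem_union_right _ hEa)
            simp only [A₂, if_neg hv, Set.mem_ofPred_eq] at hbE
            rw [← map_one (algebraMap k (v.adicCompletion k)), ← map_sub, valued_algebraMap] at hbE
            rw [← sub_add_cancel b 1]
            exact Valuation.map_add_le _ hbE.le (map_one _).le
          · exact hb1 v (by simp [hv, hE, hEa]) hv'
        have hc : v.valuation k (-b / a) ≤ 1 := by rw [map_div₀, Valuation.map_neg, heq, div_one]; exact hb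
        have hle := val_eval_le_one v P hPi' hc
        rw [htform, map_mul, map_pow, Valuation.map_neg, heq, one_pow, one_mul]
        refine ⟨hle, hle.eq_or_lt.imp id fun h0 => ?_⟩
        obtain ⟨x, hx⟩ := exists_root_of_separable hrq hbad _ hc h0
        exact nonempty_algHom_of_root hu hx
  refine ⟨t, ht0, fun v hv => ?_, fun w hw => ?_, fun v hv hv' => (hval v hv hv').1, fun v hv => ?_⟩
  · have h1 := ha2 v (Finset.mem_union_left _ hv)
    have h2 := hb2 v (Finset.mem_union_left _ (Finset.mem_union_left _ hv))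
    simp only [A₁, if_pos hv] at h1
    simp only [A₂, if_pos hv] at h2
    rw [← hG]
    exact (hO v hv).2.2.2.2 ⟨h1, h2⟩
  · have := (hti' w).1
    rwa [if_pos hw] at this
  · rcases eq_or_ne v v₀ with rfl | h
    · exact Or.inr hLv₀
    · exact (hval v hv h).2

end main

end GrothLib.DegOne28
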