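import Groth.Agent.Lib.NumFld28.Hensel
import Groth.Agent.Lib.StrongApproxNF28.Approx
import Mathlib.FieldTheory.PrimitiveElement
import Mathlib.Topology.Algebra.Polynomial
import Mathlib.RingTheory.DedekindDomain.Factorization

/-!
# Places of degree one from values of polynomials
-/

set_option autoImplicit false
set_option linter.style.haveILetI false

universe u

open NumberField IsDedekindDomain WithZero Polynomial Filter Topology

namespace GrothLib.DegOne28

variable {k : Type u} [Field k] [NumberField k]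

theorem val_eval_le_one (v : HeightOneSpectrum (𝓞 k)) (P : k[X]) (hP : ∀ i, v.valuation k (P.coeff i) ≤ 1)
    {c : k} (hc : v.valuation k c ≤ 1) : v.valuation k (P.eval c) ≤ 1 := by
  rw [Polynomial.eval_eq_sum_range]
  refine Valuation.map_sum_le _ fun i _ => ?_
  rw [map_mul, map_pow]
  exact mul_le_one' (hP i) (pow_le_one' hc i)

theorem valued_algebraMap (v : HeightOneSpectrum (𝓞 k)) (x : k) :
    Valued.v (algebraMap k (v.adicCompletion k) x) = v.valuation k x := by
  rw [HeightOneSpectrum.algebraMap_adicCompletion, Function.comp_apply, HeightOneSpectrum.valuedAdicCompletion_eq_valuation']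
  rfl

/-- A simple root modulo a place gives a root in the completion. -/
theorem exists_root (v : HeightOneSpectrum (𝓞 k)) (P : k[X]) (hP : ∀ i, v.valuation k (P.coeff i) ≤ 1)
    (c : k) (hc : v.valuation k c ≤ 1) (h0 : v.valuation k (P.eval c) < 1)
    (h1 : v.valuation k (P.derivative.eval c) = 1) :
    ∃ x : v.adicCompletion k, aeval x P = 0 := by
  let ι := algebraMap k (v.adicCompletion k)
  let O := (Valued.v (R := v.adicCompletion k) (Γ₀ := ℤᵐ⁰)).integer
  obtain ⟨f, hf⟩ : P.map ι ∈ Polynomial.lifts O.subtype := by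
    refine (Polynomial.lifts_iff_coeff_lifts _).mpr fun i => ⟨⟨ι (P.coeff i), ?_⟩, by rw [coeff_map]; rfl⟩
    rw [Valuation.mem_integer_iff, valued_algebraMap]
    exact hP i
  replace hf : f.map O.subtype = P.map ι := hf
  have hcO : ι c ∈ O := by rw [Valuation.mem_integer_iff, valued_algebraMap]; exact hc
  let a : O := ⟨ι c, hcO⟩
  have hev : ∀ (g : O[X]) (Q : k[X]), g.map O.subtype = Q.map ι → ((g.eval a : O) : v.adicCompletion k) = ι (Q.eval c) := by
    intro g Q h
    have := congrArg (Polynomial.eval (ι c)) h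
    rw [eval_map, eval_map, eval₂_at_apply] at this
    rw [← this]
    exact (eval₂_at_apply O.subtype a).symm
  obtain ⟨x, hx⟩ := GrothLib.NumFld28.exists_isRoot_of_valued f a
    (by rw [hev f P hf, valued_algebraMap]; exact h0)
    (by rw [hev (derivative f) (derivative P) (by rw [← derivative_map, hf, derivative_map]), valued_algebraMap]; exact h1)
  refine ⟨x, ?_⟩
  rw [hf] at hx
  rwa [IsRoot, eval_map] at hx

variable (k) in
/-- The places where a coefficient of one of three polynomials is not integral. -/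
def badSet (P r s : k[X]) : Set (HeightOneSpectrum (𝓞 k)) :=
  ⋃ Q ∈ ({P, r, s} : Set k[X]), ⋃ i ∈ Q.support, HeightOneSpectrum.Support (𝓞 k) (Q.coeff i)

theorem badSet_finite (P r s : k[X]) : (badSet k P r s).Finite :=
  (Set.toFinite _).biUnion fun Q _ => Q.support.finite_toSet.biUnion fun i _ => HeightOneSpectrum.Support.finite _ _

theorem coeff_le_one {P r s : k[X]} {v : HeightOneSpectrum (𝓞 k)} (hv : v ∉ badSet k P r s) {Q : k[X]}
    (hQ : Q ∈ ({P, r, s} : Set k[X])) (i : ℕ) : v.valuation k (Q.coeff i) ≤ 1 := by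
  by_cases hi : i ∈ Q.support
  · exact not_lt.mp fun h => hv (Set.mem_biUnion hQ (Set.mem_biUnion hi h))
  · rw [Polynomial.notMem_support_iff.mp hi, map_zero]; exact zero_le

/-- Away from the bad places of a separable polynomial its roots modulo a place lift. -/
theorem exists_root_of_separable {P r s : k[X]} (hrs : r * P + s * derivative P = 1)
    {v : HeightOneSpectrum (𝓞 k)} (hv : v ∉ badSet k P r s) (c : k) (hc : v.valuation k c ≤ 1)
    (h0 : v.valuation k (P.eval c) < 1) : ∃ x : v.adicCompletion k, aeval x P = 0 := by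
  have hP := coeff_le_one hv (Q := P) (by simp)
  refine exists_root v P hP c hc h0 (le_antisymm (val_eval_le_one v _ (fun i => ?_) hc) (not_lt.mp fun h1 => ?_))
  · rw [coeff_derivative, map_mul]
    refine mul_le_one' (hP _) ?_
    rw [show ((i : k) + 1) = algebraMap (𝓞 k) k ((i : 𝓞 k) + 1) by simp]
    exact v.valuation_le_one _
  · have := congrArg (fun Q => v.valuation k (Q.eval c)) hrs
    simp only [eval_add, eval_mul, eval_one, map_one] at this
    refine (Valuation.map_add_lt _ ?_ ?_).ne this
    · rw [map_mul]; exact (mul_le_of_le_one_left' (val_eval_le_one v r (coeff_le_one hv (by simp)) hc)).trans_lt h0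
    · rw [map_mul]; exact (mul_le_of_le_one_left' (val_eval_le_one v s (coeff_le_one hv (by simp)) hc)).trans_lt h1

theorem exists_bezout {P : k[X]} (hP : P.Separable) : ∃ r s : k[X], r * P + s * derivative P = 1 := hP

/-- A root of the minimal polynomial of a generator gives an embedding. -/
theorem nonempty_algHom_of_root {L : Type*} [Field L] [Algebra k L] [FiniteDimensional k L] {u : L}
    (hu : IntermediateField.adjoin k {u} = ⊤) {F : Type*} [Field F] [Algebra k F] {x : F}
    (hx : aeval x (minpoly k u) = 0) : Nonempty (L →ₐ[k] F) := by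
  have hi : IsIntegral k u := IsIntegral.of_finite k u
  let pb := IntermediateField.adjoin.powerBasis hi
  have hgen : pb.gen = IntermediateField.AdjoinSimple.gen k u := IntermediateField.adjoin.powerBasis_gen hi
  let e : L ≃ₐ[k] IntermediateField.adjoin k {u} :=
    IntermediateField.topEquiv.symm.trans (IntermediateField.equivOfEq hu.symm)
  refine ⟨(pb.lift x ?_).comp e.toAlgHom⟩
  rw [hgen, IntermediateField.minpoly_gen]
  exact hx

/-- A polynomial of positive degree takes non-unit values at places outside any given finite set. -/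
theorem exists_nonunit_value (P : k[X]) (hdeg : 0 < P.degree) (h0 : P.coeff 0 ≠ 0)
    (Z : Finset (HeightOneSpectrum (𝓞 k))) :
    ∃ v : HeightOneSpectrum (𝓞 k), v ∉ Z ∧ ∃ c : k, v.valuation k c ≤ 1 ∧
      (∀ i, v.valuation k (P.coeff i) ≤ 1) ∧ v.valuation k (P.eval c) < 1 := by
  classical
  let Q := C (P.coeff 0)⁻¹ * P
  have hQdeg : 0 < Q.degree := by rwa [degree_C_mul (inv_ne_zero h0)]
  have hQ0 : Q.coeff 0 = 1 := by rw [coeff_C_mul, inv_mul_cancel₀ h0]
  have hbad := (HeightOneSpectrum.Support.finite (𝓞 k) (P.coeff 0)⁻¹).union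
    (badSet_finite (k := k) P Q 1)
  let Z' := Z ∪ hbad.toFinset
  have hN : ∀ v : HeightOneSpectrum (𝓞 k), ∃ N : ℕ, ∀ i, 0 < i → ∀ y : k, v.valuation k y ≤ exp (-(N : ℤ)) →
      v.valuation k (Q.coeff i * y ^ i) < 1 := fun v => by
    refine ⟨∑ j ∈ Q.support, ((log (v.valuation k (Q.coeff j))).toNat + 1), fun i hi y hy => ?_⟩
    by_cases hiQ : i ∈ Q.support
    · have hne : v.valuation k (Q.coeff i) ≠ 0 := (Valuation.ne_zero_iff _).mpr (mem_support_iff.mp hiQ)
      have hle := Finset.single_le_sum (f := fun j => (log (v.valuation k (Q.coeff j))).toNat + 1)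
        (fun _ _ => Nat.zero_le _) hiQ
      have hy1 : v.valuation k y ≤ 1 := hy.trans (by rw [← exp_zero, exp_le_exp]; omega)
      obtain ⟨i, rfl⟩ := Nat.exists_eq_succ_of_ne_zero hi.ne'
      rw [map_mul, map_pow, pow_succ']
      refine (mul_le_mul_right (mul_le_of_le_one_right' (pow_le_one' hy1 i)) _).trans_lt ?_
      refine (mul_le_mul_right hy _).trans_lt ?_
      conv_lhs => rw [← exp_log hne, ← exp_add]
      rw [← exp_zero, exp_lt_exp]
      omega
    · rw [Polynomial.notMem_support_iff.mp hiQ, zero_mul, map_zero]; exact zero_lt_one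
  choose N hN using hN
  obtain ⟨μ, hμ0, hμ⟩ := GrothLib.StrongApproxNF28.exists_valuation_le Z' (Z'.sup N)
  by_contra hc
  push Not at hc
  have hμk : (μ : k) ≠ 0 := RingOfIntegers.coe_ne_zero_iff.mpr hμ0
  have hunit : ∀ n : ℕ, ∀ v : HeightOneSpectrum (𝓞 k), v.valuation k (Q.eval ((μ : k) * n)) = 1 := fun n v => by
    have hn : v.valuation k (n : k) ≤ 1 := by rw [← map_natCast (algebraMap (𝓞 k) k)]; exact v.valuation_le_one _
    have hcv : v.valuation k ((μ : k) * n) ≤ 1 := by rw [map_mul]; exact mul_le_one' (v.valuation_le_one μ) hn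
    by_cases hv : v ∈ Z'
    · have hy : v.valuation k ((μ : k) * n) ≤ exp (-(N v : ℤ)) := by
        rw [map_mul]
        refine (mul_le_of_le_one_right' hn).trans ((hμ v hv).trans ?_)
        rw [exp_le_exp]; have := Finset.le_sup (f := N) hv; omega
      rw [eval_eq_sum_range, Finset.sum_range_succ', hQ0, pow_zero, mul_one, add_comm,
        Valuation.map_one_add_of_lt _ (Valuation.map_sum_lt _ one_ne_zero fun i _ => hN v (i + 1) (by omega) _ hy)]
    · simp only [Z', Finset.mem_union, Set.Finite.mem_toFinset, Set.mem_union, not_or] at hv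
      have hP := coeff_le_one hv.2.2 (Q := P) (by simp)
      have hQle := coeff_le_one hv.2.2 (Q := Q) (by simp)
      refine le_antisymm (val_eval_le_one v Q hQle hcv) (not_lt.mp fun hlt => ?_)
      refine (hc v hv.1 _ hcv hP).not_gt ?_
      have he : P.eval ((μ : k) * n) = P.coeff 0 * Q.eval ((μ : k) * n) := by
        simp only [Q, eval_mul, eval_C]; field_simp
      rw [he, map_mul]
      exact (mul_le_of_le_one_left' (hP 0)).trans_lt hlt
  have hbig : ∀ w : InfinitePlace k, ∀ᶠ n : ℕ in atTop, 1 < w (Q.eval ((μ : k) * n)) := fun w => by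
    have hz : Tendsto (fun n : ℕ => w.1 ((μ : k) * n)) atTop atTop := by
      have hw : ∀ n : ℕ, w.1 ((μ : k) * n) = w.1 (μ : k) * n := fun n => by
        rw [map_mul]; congr 1
        show w (n : k) = n
        rw [← InfinitePlace.norm_embedding_eq, map_natCast, Complex.norm_natCast]
      simp only [hw]
      exact Tendsto.const_mul_atTop (w.1.pos hμk) tendsto_natCast_atTop_atTop
    haveI : IsAbsoluteValue w.1 := AbsoluteValue.isAbsoluteValue w.1
    exact (Polynomial.tendsto_abv_atTop w.1 Q hQdeg (z := fun n : ℕ => (μ : k) * n) hz).eventually_gt_atTop 1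
  obtain ⟨n, hn⟩ := (eventually_all.mpr hbig).exists
  let z := Q.eval ((μ : k) * n)
  obtain ⟨a, ha⟩ := HeightOneSpectrum.mem_integers_of_valuation_le_one k z fun v => (hunit n v).le
  obtain ⟨b, hb⟩ := HeightOneSpectrum.mem_integers_of_valuation_le_one k z⁻¹ fun v => by
    rw [map_inv₀, hunit n v, inv_one]
  have hz0 : z ≠ 0 := fun h => by
    obtain ⟨w⟩ := (inferInstance : Nonempty (InfinitePlace k))
    have := hn w
    rw [show Q.eval ((μ : k) * n) = 0 from h, map_zero] at this
    exact absurd this (by norm_num)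
  have hua : IsUnit a := IsUnit.of_mul_eq_one b (RingOfIntegers.coe_injective (by
    rw [map_mul, map_one, ha, hb, mul_inv_cancel₀ hz0]))
  have h1 := NumberField.isUnit_iff_norm.mp hua
  have h2 := InfinitePlace.prod_eq_abs_norm (K := k) z
  have h3 : (1 : ℝ) < ∏ w : InfinitePlace k, w z ^ w.mult :=
    lt_of_eq_of_lt (Finset.prod_const_one (s := (Finset.univ : Finset (InfinitePlace k)))).symm
      (Finset.prod_lt_prod_of_nonempty (fun _ _ => one_pos) (fun w _ => one_lt_pow₀ (hn w) InfinitePlace.mult_ne_zero)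
        Finset.univ_nonempty)
  rw [h2] at h3
  rw [show z = (a : k) from ha.symm, ← RingOfIntegers.coe_norm, h1] at h3
  simp at h3

/-- There are places of degree one outside any finite set. -/
theorem exists_degreeOne (L : Type u) [Field L] [NumberField L] [Algebra k L]
    (Z : Finset (HeightOneSpectrum (𝓞 k))) :
    ∃ v : HeightOneSpectrum (𝓞 k), v ∉ Z ∧ Nonempty (L →ₐ[k] v.adicCompletion k) := by
  classical
  haveI : FiniteDimensional k L := Module.Finite.of_restrictScalars_finite ℚ k L
  obtain ⟨θ, hθ, hθ0⟩ : ∃ θ : L, IntermediateField.adjoin k {θ} = ⊤ ∧ θ ≠ 0 := by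
    obtain ⟨θ, hθ⟩ := Field.exists_primitive_element k L
    by_cases h : θ = 0
    · subst h
      refine ⟨1, ?_, one_ne_zero⟩
      rw [eq_top_iff, ← hθ]
      exact IntermediateField.adjoin_le_iff.mpr (by simp)
    · exact ⟨θ, hθ, h⟩
  have hi : IsIntegral k θ := IsIntegral.of_finite k θ
  obtain ⟨r, s, hrs⟩ := exists_bezout (Algebra.IsSeparable.isSeparable k θ : (minpoly k θ).Separable)
  obtain ⟨v, hv, c, hc, -, h0⟩ := exists_nonunit_value (minpoly k θ) (minpoly.degree_pos hi)
    (minpoly.coeff_zero_ne_zero hi hθ0) (Z ∪ (badSet_finite (minpoly k θ) r s).toFinset)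
  simp only [Finset.mem_union, Set.Finite.mem_toFinset, not_or] at hv
  obtain ⟨x, hx⟩ := exists_root_of_separable hrs hv.2 c hc h0
  exact ⟨v, hv.1, nonempty_algHom_of_root hθ hx⟩

end GrothLib.DegOne28
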